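import Groth.Agent.Lib.PicAV13.Etale
import Groth.Agent.Lib.HodgeDim13.Final
import Groth.Agent.Lib.CurveCoh17.GenusBC
import Groth.Agent.Lib.FibDim4.Basic
import Groth.Agent.Lib.FibCodim11.Basic
import Groth.Agent.Lib.PicGrp20.Group
import Groth.Agent.Lib.GrpCM20.Basic
import Groth.Agent.Lib.PicSep22.Main
import Groth.Agent.S11757
import Groth.Agent.S3228

/-!
# The Picard scheme of an abelian variety is smooth of dimension `g`
-/

universe u

open CategoryTheory Limits MonoidalCategory CartesianMonoidalCategory AlgebraicGeometry TopologicalSpace Opposite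
open scoped MonObj GrpObj

set_option autoImplicit false
set_option linter.style.haveILetI false
set_option linter.unusedSectionVars false
set_option maxHeartbeats 1000000
set_option backward.isDefEq.respectTransparency false
set_option backward.isDefEq.respectTransparency.types false

noncomputable section

namespace Groth.Agent.PicAV13

open Groth.Agent.AlgEquiv22

noncomputable local instance instLawPA (Y : Scheme.{u}) : PicGrp.Law Y := M2.law Y

variable {k : Type u} [Field k] (A : Over (Spec (CommRingCat.of k))) [GrpObj A] [IsProper A.hom]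
  [GeometricallyIntegral A.hom]

/-- `h^n(A, O_A) = C(g, n)` over any field. -/
theorem finrank_HH_structure {g : ℕ} (hg : topologicalKrullDim A.left = g) [A.left.Over (Spec (CommRingCat.of k))]
    (hover : A.left ↘ Spec (CommRingCat.of k) = A.hom) (n : ℕ) :
    Module.finrank k (Coh.HH A.left (Coh.structureModule A.left) n) = g.choose n := by
  let K := AlgebraicClosure k
  let σ := Spec.map (CommRingCat.ofHom (algebraMap k K))
  let B := (Over.pullback σ).obj A
  letI : GrpObj B := Functor.grpObjObj
  haveI : IsProper B.hom := inferInstanceAs (IsProper (pullback.snd A.hom σ))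
  haveI : GeometricallyIntegral B.hom := inferInstanceAs (GeometricallyIntegral (pullback.snd A.hom σ))
  have hB : topologicalKrullDim B.left = g := by
    rw [← hg]
    exact FibDim4.topologicalKrullDim_eq_of_isPullback (CommRingCat.ofHom (algebraMap k K)) (Semifield.toIsField k)
      (Semifield.toIsField K) A.hom (pullback.fst A.hom σ) B.hom (IsPullback.of_hasPullback A.hom σ)
  letI : B.left.Over (Spec (CommRingCat.of K)) := ⟨B.hom⟩
  haveI : CompactSpace A.left := QuasiCompact.compactSpace_of_compactSpace A.hom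
  haveI : QuasiSeparatedSpace A.left := quasiSeparatedSpace_of_quasiSeparated A.hom
  rw [← HodgeDim13.finrank_HH_structure_of_isAlgClosed K B hB rfl n]
  refine (CurveCoh17.finrank_HH_of_isPullback (X := A.left) (Y := B.left) (g := pullback.fst A.hom σ) ?_ n).symm
  rw [hover]
  exact IsPullback.of_hasPullback A.hom σ

theorem pb_one_any {V : Over (Spec (CommRingCat.of k))} (c : PicLoc.PicSet A.left) : pb (1 : V ⟶ A) c = 1 := by
  rw [show (1 : V ⟶ A) = toUnit V ≫ η[A] from Hom.one_def, ← pb_pb]
  rw [show pb η[A] c = 1 from point_eq_one _, map_one]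

variable {P : Over (Spec (CommRingCat.of k))}
  {φ : ∀ T : Over (Spec (CommRingCat.of k)), PicF.Cl (PicF.XT A.hom T) → (T ⟶ P)}
  (hP : AbDual.IsRelPicK Scheme.fppfPrecoverage A.hom P φ) [LocallyOfFiniteType P.hom]

include hP

/-- The Picard scheme of an abelian variety has dimension at least `g` at the origin. -/
theorem le_ringKrullDim_stalk {g : ℕ} (hg : topologicalKrullDim A.left = g) :
    (g : WithBot ℕ∞) ≤ ringKrullDim (P.left.presheaf.stalk
      ((φ (Over.mk (𝟙 (Spec (CommRingCat.of k))))
        (PicF.cl (Coh.structureModule (PicF.XT A.hom (Over.mk (𝟙 (Spec (CommRingCat.of k)))))))).left.base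
          (IsLocalRing.closedPoint k))) := by
  haveI : Smooth A.hom := @smooth_of_grpObj k _ _ A.hom _ (show GrpObj (Over.mk A.hom) from ‹GrpObj A›) _
  haveI : GeometricallyConnected A.hom := CubeField.geometricallyConnected_of_irreducible A.hom
  obtain ⟨L, hLa⟩ := CubeField.exists_isAmple A
  have hLr : RelAmple.IsRelAmple A.hom L := (RA.isRelAmple_iff_isAmple A.hom).2 hLa
  have hL : PicF.IsInvertible L := RA.isInvertible_of_isRelAmple A.hom hLr
  obtain ⟨KL, iK, hK⟩ := Seesaw13.exists_isKL (A := A) hL
  haveI : IsFinite KL.hom := KLFin22.isFinite_KL L hLr KL iK hK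
  haveI : IsClosedImmersion iK.left := hK.closed
  haveI : IsLocallyNoetherian A.left := LocallyOfFiniteType.isLocallyNoetherian A.hom
  haveI : IsLocallyNoetherian P.left := LocallyOfFiniteType.isLocallyNoetherian P.hom
  have hσ : η[A].left ≫ A.hom = 𝟙 _ := Over.w η[A]
  have ha : ∀ (T : Over (Spec (CommRingCat.of k))) (U : T.left.Opens), IsIso ((PicF.XTproj A.hom T).app U) :=
    fun T U => PicSep22.isIso_app (pullback.snd A.hom T.hom) U
  have ha₀ := RigDesc22.bijective_appTop_of_isIso A.hom ha
  set c := PicGrp.cls L hL with hc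
  let M : PicLoc.PicSet (A ⊗ A).left :=
    pb (fst A A * snd A A) c * (pb (fst A A) c)⁻¹ * (pb (snd A A) c)⁻¹
  have hpbM : ∀ {V : Over (Spec (CommRingCat.of k))} (a b : V ⟶ A),
      pb (lift a b) M = pb (a * b) c * (pb a c)⁻¹ * (pb b c)⁻¹ := by
    intro V a b
    simp only [M, map_mul, map_inv, pb_pb, MonObj.comp_mul, lift_fst, lift_snd]
  let ψ : A ⟶ P := φ A M.1
  -- the fibre over the origin lies in `K(L)`
  have hfac : ∀ (T : Over (Spec (CommRingCat.of k))) (a : T ⟶ A),
      a ≫ ψ = φ T (PicF.cl (Coh.structureModule (PicF.XT A.hom T))) → ∃ y : T ⟶ KL, y ≫ iK = a := by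
    intro T a ha'
    refine (hK.univ T a).1 ((CubeField.isMumfordTriv_iff hL a).2 ?_)
    have hXT : PicF.XTmap A.hom a = (A ◁ a).left := by
      apply pullback.hom_ext
      · rw [PicF.XTmap, pullback.lift_fst]
        exact (congrArg CommaMorphism.left (whiskerLeft_fst A a)).symm
      · rw [PicF.XTmap, pullback.lift_snd]
        exact (congrArg CommaMorphism.left (whiskerLeft_snd A a)).symm
    have hsec : PicF.secT A.hom η[A].left hσ T = (lift (1 : T ⟶ A) (𝟙 T)).left := by
      apply pullback.hom_ext
      · rw [PicF.secT, pullback.lift_fst]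
        refine Eq.trans ?_ (congrArg CommaMorphism.left (lift_fst (1 : T ⟶ A) (𝟙 T))).symm
        rw [Hom.one_def]
        exact (congrArg (fun m => m ≫ η[A].left) (Over.toUnit_left (R := T))).symm
      · rw [PicF.secT, pullback.lift_snd]
        exact (congrArg CommaMorphism.left (lift_snd (1 : T ⟶ A) (𝟙 T))).symm
    have hz : PicF.IsTrivialCl (PicF.pullCl (PicF.secT A.hom η[A].left hσ T) (pb (A ◁ a) M).1) := by
      rw [hsec]
      have : pb (lift (1 : T ⟶ A) (𝟙 T)) (pb (A ◁ a) M) = 1 := by
        rw [pb_pb, show lift (1 : T ⟶ A) (𝟙 T) ≫ A ◁ a = lift 1 a by simp, hpbM, _root_.one_mul, pb_one_any,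
          inv_one, _root_.mul_one, mul_inv_cancel]
      exact congrArg Subtype.val this
    have h1 : pb (A ◁ a) M = 1 := by
      refine Subtype.ext ?_
      refine RigDesc22.eq_of_phi_eq A.hom η[A].left hσ (RigDesc22.good_invertible A.hom) hP.locallyInjective ha₀
        (pb (A ◁ a) M).2 ⟨_, rfl, PicLoc.isInvertible_structureModule _⟩ hz
        (PicDesc21.pullCl_structure _) ?_
      have h2 : (pb (A ◁ a) M).1 = PicF.pullCl (PicF.XTmap A.hom a) M.1 := by rw [hXT]; rfl
      rw [h2, hP.natural A T a M.1 M.2]
      exact ha'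
    have h3 : pb (lift (fst A T) (snd A T ≫ a)) M = 1 := by
      rw [show lift (fst A T) (snd A T ≫ a) = A ◁ a by apply CartesianMonoidalCategory.hom_ext <;> simp]
      exact h1
    rw [hpbM, mul_inv_eq_one, mul_inv_eq_iff_eq_mul] at h3
    have hP' : ∀ {V : Over (Spec (CommRingCat.of k))} (f : V ⟶ A), CubeField.P L hL f = pb f c := fun f => by
      rw [hc, ← CubeField.P_id (hL := hL), pb, CubeField.pullHom_P, Category.comp_id]
    rw [hP', hP', hP', mul_comm]
    exact h3
  let e := (φ (Over.mk (𝟙 (Spec (CommRingCat.of k))))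
    (PicF.cl (Coh.structureModule (PicF.XT A.hom (Over.mk (𝟙 (Spec (CommRingCat.of k)))))))).left.base
      (IsLocalRing.closedPoint k)
  let e₀ : Over.mk (𝟙 (Spec (CommRingCat.of k))) ⟶ P :=
    φ _ (PicF.cl (Coh.structureModule (PicF.XT A.hom (Over.mk (𝟙 (Spec (CommRingCat.of k)))))))
  have hfibre : ∀ z : A.left, ψ.left z = e → IsClosed ({z} : Set A.left) := by
    intro z hz
    obtain ⟨w, hwA, -⟩ := Scheme.Pullback.exists_preimage_pullback (f := ψ.left) (g := e₀.left) z
      (IsLocalRing.closedPoint k) (by exact hz)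
    let T : Over (Spec (CommRingCat.of k)) := Over.mk (pullback.fst ψ.left e₀.left ≫ A.hom)
    let a : T ⟶ A := Over.homMk (pullback.fst ψ.left e₀.left) rfl
    have hb : pullback.snd ψ.left e₀.left ≫ 𝟙 _ = pullback.fst ψ.left e₀.left ≫ A.hom := by
      have h : (pullback.fst ψ.left e₀.left ≫ ψ.left) ≫ P.hom = (pullback.snd ψ.left e₀.left ≫ e₀.left) ≫ P.hom :=
        congrArg (· ≫ P.hom) pullback.condition
      rw [Category.assoc, Category.assoc, Over.w ψ, Over.w e₀] at h
      exact h.symm
    let b : T ⟶ Over.mk (𝟙 (Spec (CommRingCat.of k))) := Over.homMk (pullback.snd ψ.left e₀.left) hb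
    have hab : a ≫ ψ = φ T (PicF.cl (Coh.structureModule (PicF.XT A.hom T))) := by
      have h1 : a ≫ ψ = b ≫ e₀ := Over.OverMorphism.ext pullback.condition
      rw [h1, ← hP.natural _ _ b _ ⟨_, rfl, PicLoc.isInvertible_structureModule _⟩, PicDesc21.pullCl_structure]
    obtain ⟨y, hy⟩ := hfac T a hab
    have hzy : iK.left (y.left w) = z := by
      rw [← Scheme.Hom.comp_apply, ← Over.comp_left, hy]
      exact hwA
    haveI : Finite KL.left := by
      refine Set.finite_univ_iff.1 ((KL.hom.finite_preimage_singleton (IsLocalRing.closedPoint k)).subset fun x _ => ?_)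
      exact @Subsingleton.elim _ (inferInstanceAs (Subsingleton (PrimeSpectrum k))) _ _
    haveI : JacobsonSpace KL.left := LocallyOfFiniteType.jacobsonSpace KL.hom
    rw [← hzy, ← Set.image_singleton]
    exact iK.left.isClosedEmbedding.isClosedMap _ (isClosed_singleton)
  have hη : ψ.left (η[A].left (IsLocalRing.closedPoint k)) = e := by
    let u : Over.mk (𝟙 (Spec (CommRingCat.of k))) ⟶ A := η[A]
    have hu : u ≫ ψ = e₀ := by
      show η[A] ≫ φ A M.1 = _
      rw [← hP.natural A _ η[A] M.1 M.2]
      refine congrArg (φ _) ?_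
      have hXT : PicF.XTmap A.hom η[A] = (A ◁ η[A]).left := by
        apply pullback.hom_ext
        · rw [PicF.XTmap, pullback.lift_fst]
          exact (congrArg CommaMorphism.left (whiskerLeft_fst A η[A])).symm
        · rw [PicF.XTmap, pullback.lift_snd]
          exact (congrArg CommaMorphism.left (whiskerLeft_snd A η[A])).symm
      have h : pb (A ◁ η[A]) M = 1 := by
        rw [show A ◁ η[A] = lift (fst A _) 1 by
            apply CartesianMonoidalCategory.hom_ext
            · simp
            · rw [whiskerLeft_snd, lift_snd, Hom.one_def, toUnit_unique (snd A (𝟙_ _)) (toUnit _)],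
          hpbM, _root_.mul_one, pb_one_any, inv_one, _root_.mul_one, mul_inv_cancel]
      rw [hXT]
      exact congrArg Subtype.val h
    rw [← Scheme.Hom.comp_apply]
    exact congrArg (fun f : Over.mk (𝟙 (Spec (CommRingCat.of k))) ⟶ P => f.left (IsLocalRing.closedPoint k)) hu
  obtain ⟨z, hz, hle⟩ := FibCodim11.exists_ringKrullDim_stalk_le ψ.left (fun _ => inferInstance) (fun _ => inferInstance)
    (η[A].left (IsLocalRing.closedPoint k))
  rw [hη] at hz hle
  rw [GrpField.ringKrullDim_stalk_eq A z (hfibre z hz), hg] at hle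
  exact hle

/-- The Picard scheme of an abelian variety is smooth of dimension `g`. -/
theorem smooth_and_dim {g : ℕ} (hg : topologicalKrullDim A.left = g) :
    Smooth P.hom ∧ topologicalKrullDim P.left = g := by
  letI : A.left.Over (Spec (CommRingCat.of k)) := ⟨A.hom⟩
  haveI : IsProper (A.left ↘ Spec (CommRingCat.of k)) := ‹IsProper A.hom›
  have hh1 : Module.finrank k (Coh.HH A.left (Coh.structureModule A.left) 1) = g := by
    rw [finrank_HH_structure A hg rfl 1, Nat.choose_one_right]
  have hσ : η[A].left ≫ A.hom = 𝟙 _ := Over.w η[A]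
  haveI : Flat A.hom := inferInstance
  have ha : ∀ (T : Over (Spec (CommRingCat.of k))) (U : T.left.Opens), IsIso ((PicF.XTproj A.hom T).app U) :=
    fun T U => PicSep22.isIso_app (pullback.snd A.hom T.hom) U
  have hP' : PicRel.IsRelPic A.hom P φ :=
    isRelPic_of_isRelPicK A.hom η[A].left hσ (RigDesc22.bijective_appTop_of_isIso A.hom ha) hP
  have h1 := le_ringKrullDim_stalk A hP hg
  have h2 := S3228.result k A.left P φ hP'
  rw [hh1] at h2
  have heq := le_antisymm h2 h1
  refine ⟨(S11757.result k A.left P φ hP').2 (by rw [hh1]; exact heq), ?_⟩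
  letI := PicGrp20.grpObj hP
  have heq' : ringKrullDim (P.left.presheaf.stalk
      ((φ (Over.mk (𝟙 (Spec (CommRingCat.of k))))
        (PicF.cl (Coh.structureModule (PicF.XT A.hom (Over.mk (𝟙 (Spec (CommRingCat.of k)))))))).left.base
          (IsLocalRing.closedPoint k))) = g := heq
  rw [← heq']
  refine (GrpField.ringKrullDim_stalk_eq P _ ?_).symm
  rw [← PicGrp20.eta_left_closedPoint hP]
  haveI : LocallyOfFiniteType (η[P].left ≫ P.hom) := by
    rw [Over.w η[P]]; exact inferInstanceAs (LocallyOfFiniteType (𝟙 (Spec (CommRingCat.of k))))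
  haveI : LocallyOfFiniteType η[P].left := locallyOfFiniteType_of_comp η[P].left P.hom
  haveI : JacobsonSpace P.left := LocallyOfFiniteType.jacobsonSpace P.hom
  exact η[P].left.closePoints_subset_preimage_closedPoints (isClosed_discrete (α := Spec (CommRingCat.of k)) _)

end Groth.Agent.PicAV13
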