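import Groth.Agent.Lib.RigDesc22.RelPic
import Groth.Prelude.Def_PicRel2

/-!
# With a section, an fppf-sheafified Picard scheme represents the étale sheafification
-/

universe u

open CategoryTheory CategoryTheory.Limits AlgebraicGeometry

set_option autoImplicit false
set_option linter.style.haveILetI false
set_option backward.isDefEq.respectTransparency false
set_option backward.isDefEq.respectTransparency.types false

noncomputable section

namespace Groth.Agent.PicAV13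

open Groth.Agent.PicDesc21 Groth.Agent.RigDesc22

variable {X S : Scheme.{u}} (f : X ⟶ S) (σ : S ⟶ X) (hσ : σ ≫ f = 𝟙 S)
  (ha₀ : ∀ (T : Scheme.{u}) (τ : T ⟶ S), Function.Bijective (pullback.snd f τ).appTop)
  {P : Over S} {φ : ∀ T : Over S, PicF.Cl (PicF.XT f T) → (T ⟶ P)}
  (hP : AbDual.IsRelPicK Scheme.fppfPrecoverage f P φ)

include σ hσ ha₀ hP

/-- With a section, classes with the same point agree Zariski locally. -/
theorem exists_open_eq {T : Over S} {c c' : PicF.Cl (PicF.XT f T)} (hc : PicF.IsInvertibleCl c)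
    (hc' : PicF.IsInvertibleCl c') (h : φ T c = φ T c') (x : T.left) :
    ∃ U : T.left.Opens, x ∈ U ∧
      PicF.pullCl (PicF.XTmap f (AbDual.ovrHom T U.ι)) c = PicF.pullCl (PicF.XTmap f (AbDual.ovrHom T U.ι)) c' := by
  have key : ∀ d : PicF.Cl (PicF.XT f T), PicF.IsInvertibleCl d → ∃ U : T.left.Opens, x ∈ U ∧
      PicF.IsTrivialCl (PicF.pullCl U.ι (PicF.pullCl (PicF.secT f σ hσ T) d)) := by
    intro d hd
    obtain ⟨N, hN, hNi⟩ := isInvertibleCl_pull (PicF.secT f σ hσ T) hd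
    obtain ⟨U, hxU, ⟨e⟩⟩ := hNi x
    exact ⟨U, hxU, by
      rw [← hN]
      exact Quot.sound ⟨((Scheme.Modules.restrictFunctorIsoPullback _).app N).symm ≪≫ e⟩⟩
  obtain ⟨U, hxU, hU⟩ := key c hc
  obtain ⟨U', hxU', hU'⟩ := key c' hc'
  refine ⟨U ⊓ U', ⟨hxU, hxU'⟩, ?_⟩
  have htriv : ∀ (V : T.left.Opens) (_ : U ⊓ U' ≤ V) (d : PicF.Cl (PicF.XT f T)),
      PicF.IsTrivialCl (PicF.pullCl V.ι (PicF.pullCl (PicF.secT f σ hσ T) d)) →
      PicF.IsTrivialCl (PicF.pullCl (PicF.secT f σ hσ (AbDual.ovr T (U ⊓ U').ι))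
        (PicF.pullCl (PicF.XTmap f (AbDual.ovrHom T (U ⊓ U').ι)) d)) := by
    intro V hV d hd
    rw [pullCl_pullCl, secT_XTmap, ← pullCl_pullCl]
    show PicF.IsTrivialCl (PicF.pullCl (U ⊓ U').ι (PicF.pullCl (PicF.secT f σ hσ T) d))
    rw [← T.left.homOfLE_ι hV, ← pullCl_pullCl]
    exact pullCl_trivial _ hd
  refine eq_of_phi_eq f σ hσ (good_invertible f) hP.locallyInjective ha₀ (isInvertibleCl_pull _ hc)
    (isInvertibleCl_pull _ hc') (htriv U inf_le_left c hU) (htriv U' inf_le_right c' hU') ?_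
  rw [hP.natural _ _ _ _ hc, hP.natural _ _ _ _ hc', h]

/-- With a section, the fppf-sheafified Picard scheme represents the étale sheafification. -/
theorem isRelPic_of_isRelPicK : PicRel.IsRelPic f P φ := by
  refine ⟨hP.natural, fun T g => ?_, fun T c c' hc hc' h => ?_⟩
  · obtain ⟨c, hc, -, hcg⟩ := exists_rig f σ hσ (good_invertible f) hP.natural hP.locallySurjective
      hP.locallyInjective ha₀ T g
    refine ⟨PUnit, fun _ => Scheme.Etale.mk (𝟙 T.left), fun x => ⟨⟨⟩, x, rfl⟩, fun _ => ?_⟩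
    refine ⟨PicF.pullCl (PicF.XTmap f (AbDual.ovrHom T (𝟙 T.left))) c, isInvertibleCl_pull _ hc, ?_⟩
    exact (hP.natural _ _ (AbDual.ovrHom T (𝟙 T.left)) _ hc).trans (congrArg (AbDual.ovrHom T (𝟙 T.left) ≫ ·) hcg)
  · choose U hxU hU using fun x => exists_open_eq f σ hσ ha₀ hP hc hc' h x
    exact ⟨T.left, fun x => Scheme.Etale.mk (U x).ι, fun x => ⟨x, ⟨x, hxU x⟩, rfl⟩, hU⟩

end Groth.Agent.PicAV13
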